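import Groth.Agent.GrLib8.EventVan
import Groth.Agent.GrLib8.Grading
import Groth.Agent.ExtReesLib.Basic
import Groth.Prelude.Def_Wider

/-!
# The extended Rees algebra as a graded module over the Rees algebra

`R = ⊕_{n ≥ 0} Fⁿ Tⁿ` is graded by `ℤ`, and `R' = ⊕_{n ∈ ℤ} Fⁿ Tⁿ` is a graded `R`-module.
-/

set_option autoImplicit false

universe u

open LaurentPolynomial DirectSum

namespace Groth.Agent.FiltLC

variable {A : Type u} [CommRing A]

/-- Laurent polynomials concentrated in degree `n`. -/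
noncomputable def lauPiece (n : ℤ) : AddSubgroup A[T;T⁻¹] where
  carrier := {f | ∀ i : ℤ, i ≠ n → f.coeff i = 0}
  add_mem' {f g} hf hg i hi := by
    rw [AddMonoidAlgebra.coeff_add, Finsupp.add_apply, hf i hi, hg i hi, add_zero]
  zero_mem' i _ := by simp
  neg_mem' {f} hf i hi := by simp [hf i hi]

theorem mem_lauPiece {n : ℤ} {f : A[T;T⁻¹]} : f ∈ lauPiece n ↔ ∀ i : ℤ, i ≠ n → f.coeff i = 0 :=
  Iff.rfl

theorem C_mul_T_mem_lauPiece (a : A) (n : ℤ) : C a * T n ∈ lauPiece (A := A) n := fun i hi => by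
  rw [ExtReesLib.coeff_C_mul_T, if_neg (fun h => hi h.symm)]

theorem eq_C_mul_T {n : ℤ} {f : A[T;T⁻¹]} (h : f ∈ lauPiece n) : f = C (f.coeff n) * T n := by
  ext i
  rw [ExtReesLib.coeff_C_mul_T]
  split_ifs with hi
  · rw [hi]
  · exact h i (fun e => hi e.symm)

theorem mul_mem_lauPiece {n m : ℤ} {f g : A[T;T⁻¹]} (hf : f ∈ lauPiece n) (hg : g ∈ lauPiece m) :
    f * g ∈ lauPiece (n + m) := by
  rw [eq_C_mul_T hf, eq_C_mul_T hg,
    show C (f.coeff n) * T n * (C (g.coeff m) * T m) = C (f.coeff n * g.coeff m) * T (n + m) by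
      rw [map_mul, T_add]; ring]
  exact C_mul_T_mem_lauPiece _ _

section pieces

variable {M : Type u} [AddCommGroup M] (ι : M →+ A[T;T⁻¹]) (hι : Function.Injective ι)
  (hproj : ∀ x : M, ∀ i : ℤ, ∃ y : M, ι y = C ((ι x).coeff i) * T i)

/-- The pieces induced by an embedding into Laurent polynomials. -/
noncomputable def pieces (n : ℤ) : AddSubgroup M := (lauPiece n).comap ι

theorem mem_pieces {n : ℤ} {x : M} : x ∈ pieces ι n ↔ ∀ i : ℤ, i ≠ n → (ι x).coeff i = 0 := Iff.rfl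

include hι hproj in
theorem pieces_span (x : M) : x ∈ ⨆ n, pieces ι n := by
  choose y hy using hproj x
  have h : x = ∑ i ∈ (ι x).coeff.support, y i := hι (by
    rw [map_sum]
    simp only [hy, ← single_eq_C_mul_T]
    exact (AddMonoidAlgebra.sum_coeff_single (ι x)).symm)
  rw [h]
  exact AddSubgroup.sum_mem _ fun i _ => AddSubgroup.mem_iSup_of_mem i
    (show ι (y i) ∈ lauPiece i by rw [hy i]; exact C_mul_T_mem_lauPiece _ _)

include hι in
theorem pieces_indep : GrLib8.GIndep (pieces ι) := by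
  intro s c hc hsum g hg
  refine hι ?_
  have h : ι (∑ i ∈ s, c i) = 0 := by rw [hsum, map_zero]
  rw [map_sum] at h
  have h' := congrArg (fun f : A[T;T⁻¹] => f.coeff g) h
  simp only [AddMonoidAlgebra.coeff_sum, Finsupp.finsetSum_apply, AddMonoidAlgebra.coeff_zero,
    Finsupp.zero_apply] at h'
  rw [Finset.sum_eq_single g (fun i hi hne => hc i hi g (Ne.symm hne)) (fun h => absurd hg h)] at h'
  rw [map_zero, eq_C_mul_T (hc g hg), h', map_zero, zero_mul]

end pieces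

variable (𝓕 : FiltBl.IdealFiltration A)

/-- `R → A[T;T⁻¹]`. -/
noncomputable def rι : 𝓕.rees →+ A[T;T⁻¹] :=
  (𝓕.extRees.val.comp (ExtReesLib.ofRees 𝓕)).toAddMonoidHom

theorem rι_apply (f : 𝓕.rees) : rι 𝓕 f = (ExtReesLib.ofRees 𝓕 f : A[T;T⁻¹]) := rfl

theorem ofRees_injective : Function.Injective (ExtReesLib.ofRees 𝓕) := fun f g h =>
  Subtype.ext (Polynomial.toLaurent_injective (congrArg Subtype.val h))

theorem rι_injective : Function.Injective (rι 𝓕) := fun f g h =>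
  ofRees_injective 𝓕 (Subtype.ext h)

theorem coeff_ofRees_of_neg (f : 𝓕.rees) {i : ℤ} (hi : i < 0) :
    (ExtReesLib.ofRees 𝓕 f : A[T;T⁻¹]).coeff i = 0 := by
  rw [ExtReesLib.coe_ofRees, ExtReesLib.toLaurent_coeff_neg _ hi]

theorem exists_ofRees_eq (x : 𝓕.extRees) (h : ∀ i : ℤ, i < 0 → (x : A[T;T⁻¹]).coeff i = 0) :
    ∃ f : 𝓕.rees, ExtReesLib.ofRees 𝓕 f = x := by
  classical
  have hmon : ∀ i ∈ (x : A[T;T⁻¹]).coeff.support,
      ExtReesLib.mon 𝓕 i ((x : A[T;T⁻¹]).coeff i) (x.2 i) ∈ (ExtReesLib.ofRees 𝓕).range := by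
    intro i hi
    have h0 : 0 ≤ i := by
      by_contra hn
      exact Finsupp.mem_support_iff.1 hi (h i (by omega))
    obtain ⟨n, rfl⟩ := Int.eq_ofNat_of_zero_le h0
    have hm : Polynomial.monomial n ((x : A[T;T⁻¹]).coeff (n : ℤ)) ∈ 𝓕.rees := fun k => by
      rw [Polynomial.coeff_monomial]; split_ifs with hk
      · subst hk; exact x.2 (n : ℤ)
      · exact Ideal.zero_mem _
    exact ⟨⟨_, hm⟩, Subtype.ext (Polynomial.toLaurent_C_mul_T n _)⟩
  have := Subalgebra.sum_mem _ hmon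
  rwa [← ExtReesLib.sum_mon] at this

theorem rι_proj (f : 𝓕.rees) (i : ℤ) : ∃ y : 𝓕.rees, rι 𝓕 y = C ((rι 𝓕 f).coeff i) * T i := by
  obtain ⟨y, hy⟩ := exists_ofRees_eq 𝓕 (ExtReesLib.mon 𝓕 i ((rι 𝓕 f).coeff i)
    ((ExtReesLib.ofRees 𝓕 f).2 i)) (fun j hj => by
      rw [ExtReesLib.coe_mon, ExtReesLib.coeff_C_mul_T]
      split_ifs with e
      · subst e; exact coeff_ofRees_of_neg 𝓕 f hj
      · rfl)
  exact ⟨y, congrArg Subtype.val hy⟩

/-- The grading of the Rees algebra. -/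
noncomputable abbrev rGr : ℤ → AddSubgroup 𝓕.rees := pieces (rι 𝓕)

noncomputable instance : GradedRing (rGr 𝓕) :=
  { GrLib8.decompositionOf (rGr 𝓕) (pieces_span _ (rι_injective 𝓕) (rι_proj 𝓕))
      (pieces_indep _ (rι_injective 𝓕)) with
    one_mem := fun i hi => by
      show (rι 𝓕 1).coeff i = 0
      rw [rι_apply, map_one, OneMemClass.coe_one, ← T_zero, T_apply, if_neg (Ne.symm hi)]
    mul_mem := fun i j f g hf hg => by
      show rι 𝓕 (f * g) ∈ lauPiece (i + j)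
      rw [rι_apply, map_mul, Subalgebra.coe_mul]
      exact mul_mem_lauPiece hf hg }

/-- `R'` as an `R`-algebra. -/
noncomputable instance reesAlgebra : Algebra 𝓕.rees 𝓕.extRees :=
  (ExtReesLib.ofRees 𝓕).toRingHom.toAlgebra

theorem coe_rees_smul (r : 𝓕.rees) (x : 𝓕.extRees) :
    ((r • x : 𝓕.extRees) : A[T;T⁻¹]) = rι 𝓕 r * (x : A[T;T⁻¹]) := rfl

/-- The grading of the extended Rees algebra. -/
noncomputable abbrev eGr : ℤ → AddSubgroup 𝓕.extRees := pieces 𝓕.extRees.val.toAddMonoidHom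

/-- `R'` as a graded `R`-module. -/
noncomputable def eMod : GrLC.GMod.{u} (rGr 𝓕) :=
  GrLib8.gmodOf (rGr 𝓕) 𝓕.extRees (eGr 𝓕)
    (pieces_span _ Subtype.val_injective (fun x i => ⟨ExtReesLib.mon 𝓕 i _ (x.2 i), rfl⟩))
    (pieces_indep _ Subtype.val_injective)
    (fun {i j a x} ha hx => by
      show ((a • x : 𝓕.extRees) : A[T;T⁻¹]) ∈ lauPiece (i + j)
      rw [coe_rees_smul]
      exact mul_mem_lauPiece ha hx)

/-- `R` as a graded module over itself. -/
noncomputable def rMod : GrLC.GMod.{u} (rGr 𝓕) := GrLib8.gmodPieces (rGr 𝓕) (rGr 𝓕)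

theorem isNoetherianRing_rees [IsNoetherianRing A] (hfg : Algebra.FiniteType A 𝓕.rees) :
    IsNoetherianRing 𝓕.rees :=
  Algebra.FiniteType.isNoetherianRing A 𝓕.rees

theorem rGr_nonneg : ∀ n < 0, ∀ r ∈ rGr 𝓕 n, r = 0 := fun n hn r hr => by
  refine rι_injective 𝓕 ?_
  rw [map_zero, eq_C_mul_T hr, rι_apply, coeff_ofRees_of_neg 𝓕 r hn, map_zero, zero_mul]

theorem mem_irrel_of_pos {n : ℤ} (hn : 0 < n) {r : 𝓕.rees} (hr : r ∈ rGr 𝓕 n) :
    r ∈ (GrSyz.irrel (rGr 𝓕)).toIdeal := by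
  rw [GrLib8.irrel_toIdeal_eq]
  exact Ideal.subset_span (Set.mem_iUnion₂.2 ⟨n, hn, hr⟩)

theorem coeff_eq_zero_of_mem_irrel_pow : ∀ (N : ℕ) (r : 𝓕.rees),
    r ∈ (GrSyz.irrel (rGr 𝓕)).toIdeal ^ N → ∀ i : ℤ, i < N → (rι 𝓕 r).coeff i = 0 := by
  intro N
  induction N with
  | zero => exact fun r _ i hi => coeff_ofRees_of_neg 𝓕 r (by omega)
  | succ N ih =>
    intro r hr
    rw [pow_succ, GrLib8.irrel_toIdeal_eq] at hr
    refine Submodule.mul_induction_on hr ?_ (fun x y hx hy i hi => by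
      rw [map_add, AddMonoidAlgebra.coeff_add, Finsupp.add_apply, hx i hi, hy i hi, add_zero])
    intro a ha b hb
    induction hb using Submodule.span_induction generalizing a with
    | mem b hb =>
      obtain ⟨n, hn, hbn⟩ := Set.mem_iUnion₂.1 hb
      intro i hi
      rw [rι_apply, map_mul, Subalgebra.coe_mul, ← rι_apply, ← rι_apply, eq_C_mul_T hbn,
        ExtReesLib.coeff_mul_C_mul_T, ih a (by rwa [GrLib8.irrel_toIdeal_eq]) (i - n) (by simp only [Set.mem_Ioi] at hn; omega),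
        zero_mul]
    | zero => intro i _; simp
    | add x y _ _ hx hy =>
      intro i hi
      rw [mul_add, map_add, AddMonoidAlgebra.coeff_add, Finsupp.add_apply, hx a ha i hi,
        hy a ha i hi, add_zero]
    | smul c x _ hx =>
      rw [smul_eq_mul, show a * (c * x) = a * c * x by ring]
      exact hx (a * c) (Ideal.mul_mem_right c _ ha)

/-- `R'/R` is torsion for the irrelevant ideal. -/
theorem exists_pow_smul_mem_range (x : 𝓕.extRees) :
    ∃ N : ℕ, ∀ r ∈ (GrSyz.irrel (rGr 𝓕)).toIdeal ^ N,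
      r • x ∈ LinearMap.range (Algebra.linearMap 𝓕.rees 𝓕.extRees) := by
  classical
  obtain ⟨N, hN⟩ := ExtReesLib.exists_bound (x : A[T;T⁻¹])
  refine ⟨N, fun r hr => ?_⟩
  obtain ⟨f, hf⟩ := exists_ofRees_eq 𝓕 (r • x) (fun i hi => by
    rw [coe_rees_smul, ← AddMonoidAlgebra.sum_coeff_single (x : A[T;T⁻¹]), Finsupp.sum,
      Finset.mul_sum, AddMonoidAlgebra.coeff_sum, Finsupp.finsetSum_apply]
    refine Finset.sum_eq_zero fun j hj => ?_
    rw [single_eq_C_mul_T, ExtReesLib.coeff_mul_C_mul_T,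
      coeff_eq_zero_of_mem_irrel_pow 𝓕 N r hr (i - j) (by
        have := hN j (Finsupp.mem_support_iff.1 hj)
        omega), zero_mul])
  exact ⟨f, hf⟩

end Groth.Agent.FiltLC
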