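import Groth.Agent.FiltLC.Graded
import Groth.Agent.GrLib8.LocalCoh
import Groth.Agent.LC.CohCech
import Groth.Agent.LC.CohAcyclic

/-!
# Vanishing of local cohomology of a filtered ring from the associated graded ring
-/

set_option autoImplicit false

universe u

open LaurentPolynomial DirectSum CategoryTheory GrLC

namespace Groth.Agent.FiltLC

section general

variable {R : Type u} [CommRing R] [IsNoetherianRing R] {𝒜 : ℤ → AddSubgroup R} [GradedRing 𝒜]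
  {a : HomogeneousIdeal 𝒜}

/-- Downward propagation of vanishing along an injective map of degree `-1`. -/
theorem hVan_all_of_degree_neg_one {X Z : GrLC.GMod.{u} 𝒜} {f : X.carrier →ₗ[R] X.carrier}
    {p : X.carrier →ₗ[R] Z.carrier} (hf : GrLC.IsGrHomDeg X.gr X.gr f (-1))
    (hp : GrLC.IsGrHomDeg X.gr Z.gr p 0) (hinj : Function.Injective f)
    (hsurj : Function.Surjective p) (hex : Function.Exact f p) {q : ℕ}
    (hZ : ∀ g, GrLib8.HVan a Z q g) {c : ℤ} (hX : ∀ g, c < g → GrLib8.HVan a X q g) :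
    ∀ g, GrLib8.HVan a X q g := by
  have key : ∀ n : ℕ, ∀ g, c - n < g → GrLib8.HVan a X q g := by
    intro n
    induction n with
    | zero => exact fun g hg => hX g (by simpa using hg)
    | succ n ih =>
      exact fun g hg => GrLib8.hVan_middle hf hp hinj hsurj hex (ih _ (by push_cast at hg; omega))
        (hZ g)
  exact fun g => key (c - g + 1).toNat g (by omega)

theorem hVan_of_subsingleton {X : GrLC.GMod.{u} 𝒜} {q : ℕ}
    (h : Subsingleton (LocCoh.H a.toIdeal q X.carrier)) (g : ℤ) : GrLib8.HVan a X q g := fun E =>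
  haveI : Subsingleton (E.H a q) :=
    (GrLib8.nonempty_H_equiv X.gr E a q).some.toEquiv.subsingleton
  GrLib8.Hcomp_eq_bot_of_subsingleton E a q g

theorem subsingleton_of_hVan {X : GrLC.GMod.{u} 𝒜} {q : ℕ} (h : ∀ g, GrLib8.HVan a X q g) :
    Subsingleton (LocCoh.H a.toIdeal q X.carrier) := by
  classical
  let E : GrLC.StarInjRes 𝒜 X.gr := GrLib8.starRes X.gr
  haveI : Subsingleton (E.H a q) := by
    refine subsingleton_of_forall_eq 0 fun z => ?_
    letI := (GrLib8.isInternal_Hgr X.gr E a q).chooseDecomposition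
    rw [← sum_support_decompose (E.Hgr a q) z]
    exact Finset.sum_eq_zero fun g _ =>
      (GrLib8.Hcomp_eq_bot_iff E a q g).1 (h g E) _ (SetLike.coe_mem _)
  exact (GrLib8.nonempty_H_equiv X.gr E a q).some.symm.toEquiv.subsingleton

end general

variable {A : Type u} [CommRing A] (𝓕 : FiltBl.IdealFiltration A)

/-- The ideal of forms of positive degree in `R'`. -/
noncomputable abbrev posIdeal : Ideal 𝓕.extRees :=
  Ideal.span {x : 𝓕.extRees | ∃ n : ℤ, 0 < n ∧ ∃ a : A, (x : A[T;T⁻¹]) = C a * T n}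

theorem map_irrel :
    (GrSyz.irrel (rGr 𝓕)).toIdeal.map (algebraMap 𝓕.rees 𝓕.extRees) = posIdeal 𝓕 := by
  rw [GrLib8.irrel_toIdeal_eq, Ideal.map_span]
  refine le_antisymm (Ideal.span_mono ?_) (Ideal.span_le.2 ?_)
  · rintro _ ⟨r, hr, rfl⟩
    obtain ⟨n, hn, hr⟩ := Set.mem_iUnion₂.1 hr
    exact ⟨n, hn, _, eq_C_mul_T hr⟩
  · rintro x ⟨n, hn, a, hx⟩
    obtain ⟨f, hf⟩ := exists_ofRees_eq 𝓕 x (fun i hi => by
      rw [hx, ExtReesLib.coeff_C_mul_T, if_neg (by omega)])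
    refine Ideal.subset_span ⟨f, Set.mem_iUnion₂.2 ⟨n, hn, ?_⟩, hf⟩
    show rι 𝓕 f ∈ lauPiece n
    rw [rι_apply, hf, hx]
    exact C_mul_T_mem_lauPiece a n

theorem map_posIdeal :
    (posIdeal 𝓕).map (algebraMap 𝓕.extRees A[T;T⁻¹]) = (𝓕.F 1).map (algebraMap A A[T;T⁻¹]) := by
  rw [Ideal.map_span]
  refine le_antisymm (Ideal.span_le.2 ?_) (Ideal.map_le_iff_le_comap.2 fun a ha => ?_)
  · rintro _ ⟨x, ⟨n, hn, a, hx⟩, rfl⟩
    have h1 : a ∈ 𝓕.F 1 := by
      have := x.2 n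
      rw [hx, ExtReesLib.coeff_C_mul_T, if_pos rfl] at this
      exact 𝓕.antitone (show 1 ≤ n.toNat by omega) this
    show (x : A[T;T⁻¹]) ∈ _
    rw [hx]
    exact Ideal.mul_mem_right _ _ (Ideal.mem_map_of_mem _ h1)
  · have h : (C a * T 1 : A[T;T⁻¹]) ∈ Ideal.span (algebraMap 𝓕.extRees A[T;T⁻¹] ''
        {x : 𝓕.extRees | ∃ n : ℤ, 0 < n ∧ ∃ b : A, (x : A[T;T⁻¹]) = C b * T n}) :=
      Ideal.subset_span ⟨ExtReesLib.mon 𝓕 1 a (by simpa using ha), ⟨1, one_pos, a, rfl⟩, rfl⟩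
    have h2 := Ideal.mul_mem_right (T (-1)) _ h
    rw [mul_T_assoc, add_neg_cancel, T_zero, mul_one] at h2
    exact h2

variable [IsNoetherianRing A]

set_option maxHeartbeats 1000000 in
/-- All of `H^q_{R₊}(R')` vanishes when that of the associated graded ring does. -/
theorem subsingleton_H_extRees (hfg : Algebra.FiniteType A 𝓕.rees) (q : ℕ)
    (hG : Subsingleton (LocCoh.H ((posIdeal 𝓕).map (Ideal.Quotient.mk (Ideal.span {𝓕.u})))
      (q + 1) 𝓕.Gr)) :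
    Subsingleton (LocCoh.H (GrSyz.irrel (rGr 𝓕)).toIdeal (q + 1) 𝓕.extRees) := by
  classical
  haveI := isNoetherianRing_rees 𝓕 hfg
  haveI := ExtReesLib.isNoetherian 𝓕 hfg
  let a := GrSyz.irrel (rGr 𝓕)
  -- eventual vanishing for `R'`
  let f : (rMod 𝓕).carrier →ₗ[𝓕.rees] (eMod 𝓕).carrier := Algebra.linearMap 𝓕.rees 𝓕.extRees
  have hfdeg : GrLC.IsGrHomDeg (rMod 𝓕).gr (eMod 𝓕).gr f 0 := fun n r hr =>
    (add_zero n).symm ▸ (show ((ExtReesLib.ofRees 𝓕 r : 𝓕.extRees) : A[T;T⁻¹]) ∈ lauPiece n from hr)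
  have hKf : (LinearMap.range f).IsHomogeneous (eMod 𝓕).gr := by
    rintro g _ ⟨m, rfl⟩
    exact ⟨(decompose (rMod 𝓕).gr m (g - 0) : (rMod 𝓕).carrier), by
      rw [GrLib8.map_decompose_deg f hfdeg, sub_add_cancel]⟩
  let Q := GrLib8.quotGMod (rGr 𝓕) (eMod 𝓕).gr (LinearMap.range f) hKf
  have hQ : LocCoh.IsPowerTorsion a.toIdeal Q.carrier := fun z => by
    obtain ⟨x, rfl⟩ := Submodule.mkQ_surjective (LinearMap.range f) z
    obtain ⟨N, hN⟩ := exists_pow_smul_mem_range 𝓕 x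
    exact ⟨N, fun r hr => (map_smul (LinearMap.range f).mkQ r x).symm.trans
      ((Submodule.Quotient.mk_eq_zero _).2 (hN r hr))⟩
  haveI : Module.Finite 𝓕.rees (rMod 𝓕).carrier := inferInstanceAs (Module.Finite 𝓕.rees 𝓕.rees)
  obtain ⟨c, hc⟩ := GrLib8.exists_hVan (rGr_nonneg 𝓕) (a := a) le_rfl (q + 1) (rMod 𝓕)
  have hev : ∀ g, c < g → GrLib8.HVan a (eMod 𝓕) (q + 1) g := fun g hg =>
    GrLib8.hVan_middle hfdeg
      (fun n x hx => (add_zero n).symm ▸ GrLib8.isGrHom_mkQ (eMod 𝓕).gr _ n x hx)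
      (ofRees_injective 𝓕) (Submodule.mkQ_surjective (LinearMap.range f))
      (LinearMap.exact_map_mkQ_range f) (by rw [sub_zero]; exact hc g hg)
      (GrLib8.hVan_of_torsion (X := Q) hQ q g)
  -- multiplication by `u`
  let μ : (eMod 𝓕).carrier →ₗ[𝓕.rees] (eMod 𝓕).carrier :=
    (LinearMap.mulLeft 𝓕.extRees 𝓕.u).restrictScalars 𝓕.rees
  have hμdeg : GrLC.IsGrHomDeg (eMod 𝓕).gr (eMod 𝓕).gr μ (-1) := fun n (x : 𝓕.extRees) hx => by
    show (𝓕.u : A[T;T⁻¹]) * (x : A[T;T⁻¹]) ∈ lauPiece (n + -1)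
    rw [add_comm n]
    refine mul_mem_lauPiece ?_ hx
    show T (-1) ∈ lauPiece (-1)
    simpa using C_mul_T_mem_lauPiece (1 : A) (-1)
  have hμinj : Function.Injective μ := fun x y h =>
    Subtype.ext ((isUnit_T (R := A) (-1)).mul_left_cancel (congrArg Subtype.val h))
  let K : Submodule 𝓕.rees (eMod 𝓕).carrier := LinearMap.range μ
  have hK : K.IsHomogeneous (eMod 𝓕).gr := by
    rintro g _ ⟨m, rfl⟩
    have e : (decompose (eMod 𝓕).gr (μ m) g : (eMod 𝓕).carrier) =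
        μ (decompose (eMod 𝓕).gr m (g - (-1))) := by
      rw [GrLib8.map_decompose_deg μ hμdeg, sub_add_cancel]
    rw [e]
    exact ⟨_, rfl⟩
  let G := GrLib8.quotGMod (rGr 𝓕) (eMod 𝓕).gr K hK
  have hGv : ∀ g, GrLib8.HVan a G (q + 1) g := by
    refine hVan_of_subsingleton ?_
    have hKI : (K : Submodule 𝓕.rees 𝓕.extRees) = (Ideal.span {𝓕.u}).restrictScalars 𝓕.rees := by
      refine le_antisymm ?_ fun (x : 𝓕.extRees) (hx : x ∈ Ideal.span {𝓕.u}) => ?_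
      · rintro _ ⟨(m : 𝓕.extRees), rfl⟩
        show (𝓕.u * m : 𝓕.extRees) ∈ Ideal.span {𝓕.u}
        exact Ideal.mem_span_singleton'.2 ⟨(m : 𝓕.extRees), mul_comm (m : 𝓕.extRees) 𝓕.u⟩
      · obtain ⟨m, rfl⟩ := Ideal.mem_span_singleton'.1 hx
        exact ⟨(m : 𝓕.extRees), mul_comm 𝓕.u m⟩
    let e : G.carrier ≃ₗ[𝓕.rees] 𝓕.Gr :=
      (Submodule.quotEquivOfEq (M := 𝓕.extRees) K _ hKI).trans
        (Submodule.Quotient.restrictScalarsEquiv 𝓕.rees (Ideal.span {𝓕.u}))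
    obtain ⟨φ, -⟩ := LC.exists_indep (R := 𝓕.rees) (R' := 𝓕.Gr) a.toIdeal (q + 1) 𝓕.Gr
    haveI : Subsingleton ((localCohomology (a.toIdeal.map (algebraMap 𝓕.rees 𝓕.Gr)) (q + 1)).obj
        (ModuleCat.of 𝓕.Gr 𝓕.Gr)) := by
      rwa [IsScalarTower.algebraMap_eq 𝓕.rees 𝓕.extRees 𝓕.Gr, ← Ideal.map_map, map_irrel]
    haveI := φ.symm.toEquiv.subsingleton
    exact ((localCohomology a.toIdeal (q + 1)).mapIso e.toModuleIso).toLinearEquiv.toEquiv.subsingleton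
  refine subsingleton_of_hVan (X := eMod 𝓕)
    (hVan_all_of_degree_neg_one hμdeg
      (fun n x hx => (add_zero n).symm ▸ GrLib8.isGrHom_mkQ (eMod 𝓕).gr _ n x hx)
      hμinj (Submodule.mkQ_surjective K) (LinearMap.exact_map_mkQ_range μ) hGv hev)

/-- `H^q_{G₊}(G) = 0` implies `H^q_{F¹}(A) = 0` for `q ≥ 1`. -/
theorem subsingleton_H_of_gr (hfg : Algebra.FiniteType A 𝓕.rees) (q : ℕ)
    (hG : Subsingleton (LocCoh.H ((posIdeal 𝓕).map (Ideal.Quotient.mk (Ideal.span {𝓕.u})))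
      (q + 1) 𝓕.Gr)) :
    Subsingleton (LocCoh.H (𝓕.F 1) (q + 1) A) := by
  haveI := isNoetherianRing_rees 𝓕 hfg
  haveI := ExtReesLib.isNoetherian 𝓕 hfg
  haveI := subsingleton_H_extRees 𝓕 hfg q hG
  let J := posIdeal 𝓕
  -- over `R'`
  obtain ⟨φ, -⟩ := LC.exists_indep (R := 𝓕.rees) (R' := 𝓕.extRees)
    (GrSyz.irrel (rGr 𝓕)).toIdeal (q + 1) 𝓕.extRees
  haveI : Subsingleton ((localCohomology J (q + 1)).obj (ModuleCat.of 𝓕.extRees 𝓕.extRees)) := by
    have := φ.toEquiv.subsingleton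
    rwa [map_irrel] at this
  -- invert `u`
  have hloc := LC.isLocalizedModule_locH 𝓕.u J (q + 1) (ModuleCat.of 𝓕.extRees 𝓕.extRees)
  haveI : Subsingleton ((localCohomology J (q + 1)).obj
      ((LC.locF 𝓕.u).obj (ModuleCat.of 𝓕.extRees 𝓕.extRees))) := by
    refine subsingleton_of_forall_eq 0 fun z => ?_
    obtain ⟨⟨x, s⟩, hx⟩ := IsLocalizedModule.surj (Submonoid.powers 𝓕.u) (LC.locH 𝓕.u J (q + 1) _) z
    have h0 : s • z = 0 := by rw [hx, Subsingleton.elim x 0, map_zero]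
    exact ((Module.End.isUnit_iff _).1
      (IsLocalizedModule.map_units (LC.locH 𝓕.u J (q + 1) _) s)).1 (h0.trans (smul_zero _).symm)
  haveI : IsLocalizedModule (Submonoid.powers 𝓕.u) (Algebra.linearMap 𝓕.extRees A[T;T⁻¹]) :=
    inferInstance
  let eL : (LC.locF 𝓕.u).obj (ModuleCat.of 𝓕.extRees 𝓕.extRees) ≃ₗ[𝓕.extRees] A[T;T⁻¹] :=
    IsLocalizedModule.iso (Submonoid.powers 𝓕.u) (Algebra.linearMap 𝓕.extRees A[T;T⁻¹])
  haveI : Subsingleton ((localCohomology J (q + 1)).obj (ModuleCat.of 𝓕.extRees A[T;T⁻¹])) :=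
    ((localCohomology J (q + 1)).mapIso eL.toModuleIso).symm.toLinearEquiv.toEquiv.subsingleton
  haveI : IsNoetherianRing A[T;T⁻¹] :=
    IsLocalization.isNoetherianRing (Submonoid.powers 𝓕.u) _ inferInstance
  -- over `A[T;T⁻¹]`, then over `A`
  obtain ⟨φ₁, -⟩ := LC.exists_indep (R := 𝓕.extRees) (R' := A[T;T⁻¹]) J (q + 1) A[T;T⁻¹]
  haveI : Subsingleton ((localCohomology ((𝓕.F 1).map (algebraMap A A[T;T⁻¹])) (q + 1)).obj
      (ModuleCat.of A[T;T⁻¹] A[T;T⁻¹])) := by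
    have := φ₁.toEquiv.subsingleton
    rwa [map_posIdeal] at this
  obtain ⟨φ₂, -⟩ := LC.exists_indep (R := A) (R' := A[T;T⁻¹]) (𝓕.F 1) (q + 1) A[T;T⁻¹]
  haveI := φ₂.symm.toEquiv.subsingleton
  let F := localCohomology (𝓕.F 1) (q + 1)
  let p : A[T;T⁻¹] →ₗ[A] A :=
    { toFun := fun f => f.coeff 0
      map_add' := fun f g => by rw [AddMonoidAlgebra.coeff_add, Finsupp.add_apply]
      map_smul' := fun r f => by simp }
  let i : ModuleCat.of A A ⟶ ModuleCat.of A A[T;T⁻¹] :=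
    ModuleCat.ofHom (Algebra.linearMap A A[T;T⁻¹])
  have hip : i ≫ ModuleCat.ofHom p = 𝟙 _ := ModuleCat.hom_ext (LinearMap.ext fun x => by
    show (C x : A[T;T⁻¹]).coeff 0 = x
    rw [C_apply, if_pos rfl])
  refine subsingleton_of_forall_eq 0 fun z => ?_
  have h1 : (F.map (ModuleCat.ofHom p)).hom ((F.map i).hom z) = z := by
    rw [← ModuleCat.comp_apply, ← F.map_comp, hip, F.map_id]
    rfl
  rw [← h1, Subsingleton.elim ((F.map i).hom z) 0, map_zero]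

end Groth.Agent.FiltLC
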